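/-
The unipotent group of a group of type ²G₂ as a group with three layers.
-/
import Mathlib
import Cfsg.Agent.Lib.Chev.Twist.G2Local

set_option autoImplicit false
set_option maxRecDepth 20000

namespace CfsgLib.Recognition.ReeU

open Cfsg.Lie CfsgLib.Chev CfsgLib.Chev.TwG2

universe v

variable {K : Type v} [Field K] [Fintype K] {m : ℕ} (C : Ctx K m)

/-- A unipotent element. -/
noncomputable def el (t u v : K) : ↥(twistedG2 K (3 ^ m)) := ⟨C.cl t u v, (C.cl_mem t u v).1⟩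

/-- A torus element. -/
noncomputable def tor : Kˣ →* ↥(twistedG2 K (3 ^ m)) :=
  C.par.codRestrict _ fun b => (C.range_le ⟨b, rfl⟩).2

theorem el_inj {t u v t' u' v' : K} (h : el C t u v = el C t' u' v') : t = t' ∧ u = u' ∧ v = v' :=
  C.cl_inj (congrArg Subtype.val h)

theorem el_zero : el C 0 0 0 = 1 := Subtype.ext C.cl_zero

theorem el_mul_low (t u v u' v' : K) : el C t u v * el C 0 u' v' = el C t (u + u') (v + v') :=
  Subtype.ext (C.cl_mul_center t u v u' v')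

theorem mul_mem_posU (t u v t' u' v' : K) : ∃ U V, el C t u v * el C t' u' v' = el C (t + t') U V := by
  obtain ⟨T, U, V, e⟩ := C.mem_posU_iff.1
    (Subgroup.mul_mem _ (C.mem_posU_iff.2 ⟨t, u, v, rfl⟩) (C.mem_posU_iff.2 ⟨t', u', v', rfl⟩))
  obtain rfl := C.cl_mul_fst e
  exact ⟨U, V, Subtype.ext e⟩

theorem inv_el (t u v : K) : ∃ U V, (el C t u v)⁻¹ = el C (-t) U V := by
  obtain ⟨U, V, e⟩ := mul_mem_posU C t u v (-t) 0 0
  rw [add_neg_cancel] at e
  refine ⟨-U, -V, inv_eq_of_mul_eq_one_right ?_⟩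
  rw [show el C (-t) (-U) (-V) = el C (-t) 0 0 * el C 0 (-U) (-V) by
    rw [el_mul_low, zero_add, zero_add], ← mul_assoc, e, el_mul_low, add_neg_cancel, add_neg_cancel, el_zero]

theorem inv_low (u v : K) : (el C 0 u v)⁻¹ = el C 0 (-u) (-v) := by
  refine inv_eq_of_mul_eq_one_right ?_
  rw [el_mul_low, add_neg_cancel, add_neg_cancel, el_zero]

/-- The product in the opposite order. -/
theorem low_mul_el (t u v u' v' : K) :
    ∃ V, el C 0 u' v' * el C t u v = el C t (u + u') V ∧ (u' = 0 → V = v + v') := by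
  have hF := DataG2.facts
  have h0 : C.cl 0 u' v' = C.nf 0 (C.f u') (C.f v') u' v' := by
    rw [C.cl_val, Ctx.nf, map_zero, hF.xU_zero (show g2a < chevG2.nroots by decide), one_mul]
    simp [mul_assoc]
  have h1 : C.cl t u v = xU chevG2 g2a (C.f t) * C.nf t (C.f t * t + C.f u) (C.f t ^ 2 * t + C.f v) u v := by
    rw [C.cl_val, Ctx.nf, mul_assoc]
  obtain ⟨F₁, G₁, e1⟩ := C.nf_swap (C.f t) 0 (C.f u') (C.f v') u' v'
  obtain ⟨G₂, e2⟩ := C.nf_mul 0 (C.f t * 0 + C.f u') (C.f t ^ 2 * 0 - C.f t * C.f u' + C.f v') F₁ G₁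
    t (C.f t * t + C.f u) (C.f t ^ 2 * t + C.f v) u v
  have e3 : C.cl 0 u' v' * C.cl t u v = xU chevG2 g2a (C.f t) * C.nf (0 + t)
      (C.f t * 0 + C.f u' + (C.f t * t + C.f u))
      (C.f t ^ 2 * 0 - C.f t * C.f u' + C.f v' + (C.f t ^ 2 * t + C.f v)) (F₁ + u) G₂ := by
    rw [h0, h1, ← mul_assoc, e1, mul_assoc, e2]
  obtain ⟨T, U, V, e⟩ := C.mem_posU_iff.1
    (Subgroup.mul_mem _ (C.mem_posU_iff.2 ⟨0, u', v', rfl⟩) (C.mem_posU_iff.2 ⟨t, u, v, rfl⟩))
  have hc := e3.symm.trans e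
  rw [C.cl_val] at hc
  have hl := hF.coords_unique C.sig.hC coords
    (ts := [C.f t, 0 + t, C.f t * 0 + C.f u' + (C.f t * t + C.f u),
      C.f t ^ 2 * 0 - C.f t * C.f u' + C.f v' + (C.f t ^ 2 * t + C.f v), F₁ + u, G₂])
    (ts' := [C.f T, T, C.f T * T + C.f U, C.f T ^ 2 * T + C.f V, U, V]) rfl rfl
    (by simpa [Ctx.nf, wU, Cl.roots, posC, mul_assoc] using hc)
  simp only [List.cons.injEq, and_true] at hl
  obtain ⟨-, hT, hX, hE, -, -⟩ := hl
  rw [zero_add] at hT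
  subst hT
  have hU : U = u + u' := C.f.injective (by rw [map_add]; linear_combination -hX)
  refine ⟨V, Subtype.ext (e.trans (by rw [hU]; rfl)), fun h => C.f.injective ?_⟩
  subst h
  rw [map_zero] at hE
  rw [map_add]
  linear_combination -hE

/-- The unipotent group. -/
def subU : Subgroup ↥(twistedG2 K (3 ^ m)) :=
  (chevG2.posUnipotent K ⊓ twistedG2 K (3 ^ m)).subgroupOf (twistedG2 K (3 ^ m))

theorem mem_subU {g : ↥(twistedG2 K (3 ^ m))} : g ∈ subU (K := K) (m := m) ↔ ∃ t u v, g = el C t u v := by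
  refine Iff.trans C.mem_posU_iff ?_
  exact ⟨fun ⟨t, u, v, e⟩ => ⟨t, u, v, Subtype.ext e⟩, fun ⟨t, u, v, e⟩ => ⟨t, u, v, congrArg Subtype.val e⟩⟩

/-- The derived layer. -/
noncomputable def subV : Subgroup ↥(twistedG2 K (3 ^ m)) where
  carrier := {g | ∃ u v, g = el C 0 u v}
  one_mem' := ⟨0, 0, (el_zero C).symm⟩
  mul_mem' := by rintro _ _ ⟨u, v, rfl⟩ ⟨u', v', rfl⟩; exact ⟨_, _, el_mul_low C 0 u v u' v'⟩
  inv_mem' := by rintro _ ⟨u, v, rfl⟩; exact ⟨_, _, inv_low C u v⟩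

/-- The central layer. -/
noncomputable def subW : Subgroup ↥(twistedG2 K (3 ^ m)) where
  carrier := {g | ∃ v, g = el C 0 0 v}
  one_mem' := ⟨0, (el_zero C).symm⟩
  mul_mem' := by rintro _ _ ⟨v, rfl⟩ ⟨v', rfl⟩; exact ⟨v + v', by rw [el_mul_low, add_zero]⟩
  inv_mem' := by rintro _ ⟨v, rfl⟩; exact ⟨-v, by rw [inv_low, neg_zero]⟩

theorem comm_W (t u v w : K) : el C t u v * el C 0 0 w = el C 0 0 w * el C t u v := by
  obtain ⟨V, e, hV⟩ := low_mul_el C t u v 0 w
  rw [e, el_mul_low, hV rfl]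

theorem comm_low (u v u' v' : K) : el C 0 u v * el C 0 u' v' = el C 0 u' v' * el C 0 u v := by
  rw [el_mul_low, el_mul_low, add_comm u, add_comm v]

/-- The commutator of an element with the derived layer lies in the central layer. -/
theorem cm_mem_W (t u v u' v' : K) :
    ∃ w, el C t u v * el C 0 u' v' * (el C t u v)⁻¹ * (el C 0 u' v')⁻¹ = el C 0 0 w := by
  obtain ⟨V, e, -⟩ := low_mul_el C t u v u' v'
  refine ⟨v + v' - V, ?_⟩
  have h : el C t u v * el C 0 u' v' = el C 0 0 (v + v' - V) * (el C 0 u' v' * el C t u v) := by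
    rw [e, ← comm_W, el_mul_low, el_mul_low, add_zero, add_sub_cancel]
  rw [h]
  group

/-- Commutators lie in the derived layer. -/
theorem cm_mem_V (t u v t' u' v' : K) :
    ∃ a b, el C t u v * el C t' u' v' * (el C t u v)⁻¹ * (el C t' u' v')⁻¹ = el C 0 a b := by
  obtain ⟨U₁, V₁, e1⟩ := mul_mem_posU C t u v t' u' v'
  obtain ⟨U₂, V₂, e2⟩ := mul_mem_posU C t' u' v' t u v
  obtain ⟨I, J, e3⟩ := inv_el C (t' + t) U₂ V₂
  obtain ⟨a, b, e4⟩ := mul_mem_posU C (t + t') U₁ V₁ (-(t' + t)) I J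
  refine ⟨a, b, ?_⟩
  rw [show el C t u v * el C t' u' v' * (el C t u v)⁻¹ * (el C t' u' v')⁻¹ =
    el C t u v * el C t' u' v' * (el C t' u' v' * el C t u v)⁻¹ by group, e1, e2, e3, e4]
  congr 1
  ring

/-- The weight on the central layer. -/
def psi : Kˣ →* Kˣ := (C.fu.comp (MonoidHom.id Kˣ)) ^ 3 * (MonoidHom.id Kˣ) ^ 2

theorem psi_apply (X : Kˣ) : psi C X = C.fu X ^ 3 * X ^ 2 := rfl

theorem conj_el (b : Kˣ) (t u v : K) : tor C b * el C t u v * (tor C b)⁻¹ =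
    el C ((C.chi b : K) * t) ((C.phi (C.chi b) : K) * u) ((psi C (C.chi b) : K) * v) :=
  Subtype.ext (C.conj_cl b t u v)

theorem chi_bijective : Function.Bijective C.chi := by
  refine Finite.injective_iff_bijective.1 fun a b e => ?_
  refine div_eq_one.1 (C.chi_eq_iff (s := 1) (Or.inl rfl) ?_)
  simp only [Ctx.chi] at e ⊢
  rw [map_div, div_mul_div_comm, div_mul_div_comm, div_mul_div_comm, div_div_div_comm, e, div_self']

theorem psi_bijective : Function.Bijective (psi C) :=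
  Finite.injective_iff_bijective.1 ((injective_iff_map_eq_one _).2 fun _ h => C.psi_fix h)

theorem phi_neg_one : C.phi (-1) = 1 := by
  show C.fu (-1) ^ 3 * -1 = 1
  rw [C.fu_neg_one]
  simp [pow_succ]

theorem psi_neg_one : psi C (-1) = -1 := by
  rw [psi_apply, C.fu_neg_one]
  simp [pow_succ]

end CfsgLib.Recognition.ReeU
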