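/-
Exact product laws in the unipotent group of a group of type ²G₂.
-/
import Mathlib
import Cfsg.Agent.Lib.Recognition.Ree.Unipotent

set_option autoImplicit false
set_option maxRecDepth 20000

namespace CfsgLib.Recognition.ReeU

open Cfsg.Lie CfsgLib.Chev CfsgLib.Chev.TwG2

universe v

variable {K : Type v} [Field K] [Fintype K] {m : ℕ} (C : Ctx K m)

/-- The exact product with an element of the derived layer on the left. -/
theorem low_mul_el_eq (t u v u' v' : K) :
    el C 0 u' v' * el C t u v = el C t (u + u') (v + v' - t * u') := by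
  have hF := DataG2.facts
  have h0 : C.cl 0 u' v' = C.nf 0 (C.f u') (C.f v') u' v' := by
    rw [C.cl_val, Ctx.nf, map_zero, hF.xU_zero (show g2a < chevG2.nroots by decide), one_mul]
    simp [mul_assoc]
  have h1 : C.cl t u v = xU chevG2 g2a (C.f t) * C.nf t (C.f t * t + C.f u) (C.f t ^ 2 * t + C.f v) u v := by
    rw [C.cl_val, Ctx.nf, mul_assoc]
  obtain ⟨F₁, G₁, e1⟩ := C.nf_swap (C.f t) 0 (C.f u') (C.f v') u' v'
  obtain ⟨G₂, e2⟩ := C.nf_mul 0 (C.f t * 0 + C.f u') (C.f t ^ 2 * 0 - C.f t * C.f u' + C.f v') F₁ G₁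
    t (C.f t * t + C.f u) (C.f t ^ 2 * t + C.f v) u v
  have e3 : C.cl 0 u' v' * C.cl t u v = xU chevG2 g2a (C.f t) * C.nf (0 + t)
      (C.f t * 0 + C.f u' + (C.f t * t + C.f u))
      (C.f t ^ 2 * 0 - C.f t * C.f u' + C.f v' + (C.f t ^ 2 * t + C.f v)) (F₁ + u) G₂ := by
    rw [h0, h1, ← mul_assoc, e1, mul_assoc, e2]
  obtain ⟨T, U, V, e⟩ := C.mem_posU_iff.1
    (Subgroup.mul_mem _ (C.mem_posU_iff.2 ⟨0, u', v', rfl⟩) (C.mem_posU_iff.2 ⟨t, u, v, rfl⟩))
  have hc := e3.symm.trans e
  rw [C.cl_val] at hc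
  have hl := hF.coords_unique C.sig.hC coords
    (ts := [C.f t, 0 + t, C.f t * 0 + C.f u' + (C.f t * t + C.f u),
      C.f t ^ 2 * 0 - C.f t * C.f u' + C.f v' + (C.f t ^ 2 * t + C.f v), F₁ + u, G₂])
    (ts' := [C.f T, T, C.f T * T + C.f U, C.f T ^ 2 * T + C.f V, U, V]) rfl rfl
    (by simpa [Ctx.nf, wU, Cl.roots, posC, mul_assoc] using hc)
  simp only [List.cons.injEq, and_true] at hl
  obtain ⟨-, hT, hX, hE, -, -⟩ := hl
  rw [zero_add] at hT
  subst hT
  have hU : U = u + u' := C.f.injective (by rw [map_add]; linear_combination -hX)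
  have hV : V = v + v' - t * u' := C.f.injective (by rw [map_sub, map_add, map_mul]; linear_combination -hE)
  rw [hU, hV] at e
  exact Subtype.ext e

/-- The commutator with the derived layer. -/
theorem cm_low (t u v u' v' : K) :
    el C t u v * el C 0 u' v' * (el C t u v)⁻¹ * (el C 0 u' v')⁻¹ = el C 0 0 (t * u') := by
  have h : el C t u v * el C 0 u' v' = el C 0 0 (t * u') * (el C 0 u' v' * el C t u v) := by
    rw [low_mul_el_eq, low_mul_el_eq, el_mul_low]
    congr 1 <;> ring
  rw [h]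
  group

/-- The cube of an element. -/
theorem cube_el (t u v : K) : ∃ w, el C t u v ^ 3 = el C 0 0 w ∧ C.f w = 2 * (C.f t ^ 2 * t) := by
  have hF := DataG2.facts
  set A := C.f t with hA
  set X := C.f t * t + C.f u
  set E := C.f t ^ 2 * t + C.f v
  have hg : C.cl t u v = xU chevG2 g2a A * C.nf t X E u v := by
    rw [C.cl_val, Ctx.nf, mul_assoc]
  obtain ⟨F₁, G₁, e1⟩ := C.nf_swap A t X E u v
  obtain ⟨G₂, e2⟩ := C.nf_mul t (A * t + X) (A ^ 2 * t - A * X + E) F₁ G₁ t X E u v
  obtain ⟨F₃, G₃, e3⟩ := C.nf_swap A (t + t) (A * t + X + X) (A ^ 2 * t - A * X + E + E) (F₁ + u) G₂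
  obtain ⟨G₄, e4⟩ := C.nf_mul (t + t) (A * (t + t) + (A * t + X + X))
    (A ^ 2 * (t + t) - A * (A * t + X + X) + (A ^ 2 * t - A * X + E + E)) F₃ G₃ t X E u v
  have h3 : C.cl t u v ^ 3 = C.nf 0 0 (2 * (A ^ 2 * t)) (F₃ + u) G₄ := by
    calc C.cl t u v ^ 3
        = xU chevG2 g2a A * (C.nf t X E u v * xU chevG2 g2a A) * C.nf t X E u v *
            xU chevG2 g2a A * C.nf t X E u v := by
          rw [hg, pow_succ, pow_two]; simp only [mul_assoc]
      _ = xU chevG2 g2a A * xU chevG2 g2a A *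
            (C.nf (t + t) (A * t + X + X) (A ^ 2 * t - A * X + E + E) (F₁ + u) G₂ *
              xU chevG2 g2a A) * C.nf t X E u v := by
          rw [e1, ← e2]; simp only [mul_assoc]
      _ = xU chevG2 g2a A * xU chevG2 g2a A * xU chevG2 g2a A *
            (C.nf (t + t) (A * (t + t) + (A * t + X + X))
              (A ^ 2 * (t + t) - A * (A * t + X + X) + (A ^ 2 * t - A * X + E + E)) F₃ G₃ *
              C.nf t X E u v) := by rw [e3]; simp only [mul_assoc]
      _ = _ := by
          rw [e4, hF.xU_add (by decide), hF.xU_add (by decide),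
            show A + A + A = 0 by linear_combination A * C.three_eq_zero,
            hF.xU_zero (by decide), one_mul]
          congr 1
          · linear_combination t * C.three_eq_zero
          · linear_combination (A * t + X) * C.three_eq_zero
          · linear_combination (E - A * X) * C.three_eq_zero
  obtain ⟨T, U, V, e⟩ := C.mem_posU_iff.1
    (Subgroup.pow_mem _ (C.mem_posU_iff.2 ⟨t, u, v, rfl⟩) 3)
  have hc := h3.symm.trans e
  rw [C.cl_val] at hc
  have hl := hF.coords_unique C.sig.hC coords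
    (ts := [0, 0, 0, 2 * (A ^ 2 * t), F₃ + u, G₄])
    (ts' := [C.f T, T, C.f T * T + C.f U, C.f T ^ 2 * T + C.f V, U, V]) rfl rfl
    (by simpa [Ctx.nf, wU, Cl.roots, posC, mul_assoc,
        hF.xU_zero (show g2a < chevG2.nroots by decide),
        hF.xU_zero (show g2b < chevG2.nroots by decide),
        hF.xU_zero (show g2ab < chevG2.nroots by decide)] using hc)
  simp only [List.cons.injEq, and_true] at hl
  obtain ⟨-, hT, hX', hE, -, -⟩ := hl
  subst hT
  rw [map_zero, zero_mul, zero_add] at hX'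
  have hU : U = 0 := C.f.injective (by rw [← hX', map_zero])
  subst hU
  exact ⟨V, Subtype.ext e, by rw [hE, map_zero, zero_pow (by norm_num), zero_mul, zero_add]⟩

end CfsgLib.Recognition.ReeU
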