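/-
Central 3-kernels over a group of type ²G₂ split over the unipotent group.
-/
import Mathlib
import Cfsg.Agent.Lib.Recognition.CoverLayers
import Cfsg.Agent.Lib.Recognition.Ree.Unipotent
import Cfsg.Agent.Lib.Recognition.Suzuki.CoverKernel
import Cfsg.Agent.Lib.Chev.Twist.G2Cyclic
import Cfsg.Agent.Lib.Chev.Twist.G2Cent

set_option autoImplicit false
set_option maxRecDepth 20000

namespace CfsgLib.Recognition.ReeCover

open Cfsg.Lie CfsgLib.Chev CfsgLib.Chev.TwG2 CfsgLib.Recognition.CoverLayers CfsgLib.Recognition.ReeU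

universe v

section Field

variable {K : Type v} [Field K] [Fintype K]

open Polynomial in
theorem exists_eval_ne (P : K[X]) (hP : P ≠ 0) (hd : P.natDegree < Fintype.card K) :
    ∃ l, P.eval l ≠ 0 := by
  by_contra h
  simp only [not_exists, not_not] at h
  exact hP (eq_zero_of_natDegree_lt_card_of_eval_eq_zero P (f := id) Function.injective_id h hd)

variable {m : ℕ} (C : Ctx K m)

include C in
theorem card_ge (hm : 1 ≤ m) : 27 ≤ Fintype.card K := by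
  rw [C.card]
  exact (show 27 ≤ 3 ^ 3 by norm_num).trans (Nat.pow_le_pow_right (by norm_num) (by omega))

include C in
theorem exists_linear (hm : 1 ≤ m) : ∃ l : K, l ≠ 0 ∧ 1 + l ≠ 0 ∧ l * l + l + 1 ≠ 0 := by
  open Polynomial in
  obtain ⟨l, hl⟩ := exists_eval_ne (X * (1 + X) * (X * X + X + 1) : K[X])
    (mul_ne_zero (mul_ne_zero X_ne_zero fun h => by simpa using congrArg (fun P : K[X] => P.coeff 0) h)
      fun h => by simpa using congrArg (fun P : K[X] => P.coeff 0) h)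
    (lt_of_le_of_lt (by compute_degree) (show 4 < Fintype.card K by have := card_ge C hm; omega))
  simp only [Polynomial.eval_mul, Polynomial.eval_add, Polynomial.eval_X, Polynomial.eval_one,
    mul_ne_zero_iff] at hl
  exact ⟨l, hl.1.1, hl.1.2, hl.2⟩

include C in
theorem exists_twisted (hm : 1 ≤ m) : ∃ l : K, l ≠ 0 ∧ 1 + l ≠ 0 ∧
    (C.f 1 ^ 3 * 1 ^ 2)⁻¹ + (C.f l ^ 3 * l ^ 2)⁻¹ ≠ (C.f (1 + l) ^ 3 * (1 + l) ^ 2)⁻¹ := by
  set e := 3 ^ (m + 1) with he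
  have hf3 : ∀ x, C.f x ^ 3 = x ^ e := fun x => by rw [C.hf, ← pow_mul, he, pow_succ]
  have he1 : 9 ≤ e := (show 9 ≤ 3 ^ 2 by norm_num).trans (Nat.pow_le_pow_right (by norm_num) (by omega))
  have hcard : 2 * e + 6 < Fintype.card K := by
    rw [C.card, show 2 * m + 1 = (m + 1) + m by omega, pow_add, ← he]
    have e3 : 3 ≤ 3 ^ m := Nat.le_self_pow (by omega) 3
    calc 2 * e + 6 < e * 3 := by omega
      _ ≤ e * 3 ^ m := Nat.mul_le_mul_left _ e3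
  open Polynomial in
  obtain ⟨l, hl⟩ := exists_eval_ne (X * (1 + X) *
      ((X ^ e * X ^ 2) * ((1 + X ^ e) * (1 + X) ^ 2) + (1 + X ^ e) * (1 + X) ^ 2 - X ^ e * X ^ 2) : K[X])
    (fun h => by
      refine mul_ne_zero (mul_ne_zero X_ne_zero ?_) ?_ h
      · intro h'
        have h0 := congrArg (fun P : K[X] => P.coeff 0) h'
        simp at h0
      · intro h'
        have h0 := congrArg (fun P : K[X] => P.eval 0) h'
        simp [zero_pow (show e ≠ 0 by omega)] at h0)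
    (lt_of_le_of_lt (by compute_degree; omega) hcard)
  simp only [Polynomial.eval_mul, Polynomial.eval_add, Polynomial.eval_sub, Polynomial.eval_X,
    Polynomial.eval_one, Polynomial.eval_pow, mul_ne_zero_iff] at hl
  obtain ⟨⟨h1, h2⟩, h3⟩ := hl
  refine ⟨l, h1, h2, ?_⟩
  have hadd : (1 + l) ^ e = 1 + l ^ e := by rw [← hf3, map_add, map_one, C.cube_add, one_pow, hf3]
  have hA : l ^ e * l ^ 2 ≠ 0 := mul_ne_zero (pow_ne_zero _ h1) (pow_ne_zero _ h1)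
  have hB : (1 + l ^ e) * (1 + l) ^ 2 ≠ 0 := hadd ▸ mul_ne_zero (pow_ne_zero _ h2) (pow_ne_zero _ h2)
  rw [map_one, one_pow, one_pow, one_mul, inv_one, hf3, hf3, hadd]
  intro h
  refine h3 ?_
  generalize l ^ e * l ^ 2 = A at hA h ⊢
  generalize (1 + l ^ e) * (1 + l) ^ 2 = B at hB h ⊢
  have e1 : (1 + A⁻¹ - B⁻¹) * (A * B) = A * B + B - A := by field_simp
  rw [h, sub_self, zero_mul] at e1
  exact e1.symm

include C in
theorem exists_square_sum (hm : 1 ≤ m) : ∃ a b c : K, a ≠ 0 ∧ b ≠ 0 ∧ c ≠ 0 ∧ a ^ 2 + b ^ 2 = c ^ 2 ∧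
    a ^ 2 ≠ b ^ 2 := by
  open Polynomial in
  obtain ⟨r, hr⟩ := exists_eval_ne (X * ((X ^ 2 - 1) * ((X ^ 2 + 1) * ((1 - X ^ 2) ^ 2 - (2 * X) ^ 2))) : K[X])
    (fun h => by
      refine mul_ne_zero X_ne_zero (mul_ne_zero ?_ (mul_ne_zero ?_ ?_)) h <;>
      · intro h'
        have h0 := congrArg (fun P : K[X] => P.eval 0) h'
        simp at h0)
    (lt_of_le_of_lt (by compute_degree) (show 9 < Fintype.card K by have := card_ge C hm; omega))
  simp only [Polynomial.eval_mul, Polynomial.eval_add, Polynomial.eval_sub, Polynomial.eval_X,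
    Polynomial.eval_one, Polynomial.eval_pow, Polynomial.eval_ofNat, mul_ne_zero_iff] at hr
  obtain ⟨h1, h2, h3, h4⟩ := hr
  have two : (2 : K) ≠ 0 := fun h => one_ne_zero (show (1 : K) = 0 by linear_combination C.three_eq_zero - h)
  exact ⟨1 - r ^ 2, 2 * r, r ^ 2 + 1, fun h => h2 (by linear_combination -h), mul_ne_zero two h1, h3,
    by ring, sub_ne_zero.1 h4⟩

end Field

variable {K : Type v} [Field K] [Fintype K] {m : ℕ} (C : Ctx K m)
  {Γ : Type v} [Group Γ] [Finite Γ] (σ : Γ →* ↥(twistedG2 K (3 ^ m)))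

include C in
theorem kernel_three_eq_bot (hm : 1 ≤ m) (hsurj : Function.Surjective σ)
    (hc : σ.ker ≤ Subgroup.center Γ) (h' : σ.ker ≤ commutator Γ) (h3 : IsPGroup 3 σ.ker) :
    σ.ker = ⊥ := by
  haveI : Fact (Nat.Prime 3) := ⟨Nat.prime_three⟩
  obtain ⟨n, hn⟩ := IsPGroup.iff_card.1 h3
  -- an element of the kernel equal to its inverse is trivial
  have hinvol : ∀ z ∈ σ.ker, z = z⁻¹ → z = 1 := fun z hz e => by
    have h2 : z ^ 2 = 1 := by rw [pow_two]; nth_rw 2 [e]; exact mul_inv_cancel z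
    have h3' : orderOf z ∣ 3 ^ n := hn ▸ (Subgroup.orderOf_coe (⟨z, hz⟩ : σ.ker) ▸ orderOf_dvd_natCard _)
    exact orderOf_eq_one_iff.1 (Nat.eq_one_of_dvd_coprimes ((by decide : Nat.Coprime 2 3).pow_right n)
      (orderOf_dvd_of_pow_eq_one h2) h3')
  choose L hL using hsurj
  set S := (subU (K := K) (m := m)).comap σ
  set W := (subW C).comap σ
  set V := (subV C).comap σ
  set e : K → K → K → Γ := fun t u v => L (el C t u v) with hedef
  have he : ∀ t u v, σ (e t u v) = el C t u v := fun t u v => hL _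
  have heS : ∀ t u v, e t u v ∈ S := fun t u v => (mem_subU C).2 ⟨t, u, v, he t u v⟩
  have heV : ∀ u v, e 0 u v ∈ V := fun u v => ⟨u, v, he _ _ _⟩
  have heW : ∀ v, e 0 0 v ∈ W := fun v => ⟨v, he _ _ _⟩
  have hkW : σ.ker ≤ W := fun z hz => ⟨0, by rw [MonoidHom.mem_ker.1 hz, el_zero]⟩
  have hWV : W ≤ V := fun x ⟨v, hv⟩ => ⟨0, v, hv⟩
  have hVS : V ≤ S := fun x ⟨u, v, hv⟩ => (mem_subU C).2 ⟨0, u, v, hv⟩
  have hSel : ∀ x ∈ S, ∃ t u v, σ x = el C t u v := fun x hx => (mem_subU C).1 hx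
  have hcmW : ∀ x ∈ S, ∀ y ∈ V, cm x y ∈ W := by
    rintro x hx y ⟨u', v', hy⟩
    obtain ⟨t, u, v, hx'⟩ := hSel x hx
    obtain ⟨w, hw⟩ := cm_mem_W C t u v u' v'
    exact ⟨w, by rw [cm, map_mul, map_mul, map_mul, map_inv, map_inv, hx', hy, hw]⟩
  have hcmV : ∀ x ∈ S, ∀ y ∈ S, cm x y ∈ V := by
    intro x hx y hy
    obtain ⟨t, u, v, hx'⟩ := hSel x hx
    obtain ⟨t', u', v', hy'⟩ := hSel y hy
    obtain ⟨a, b, hw⟩ := cm_mem_V C t u v t' u' v'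
    exact ⟨a, b, by rw [cm, map_mul, map_mul, map_mul, map_inv, map_inv, hx', hy', hw]⟩
  have hcmK : ∀ x ∈ S, ∀ y ∈ W, cm x y ∈ σ.ker := by
    rintro x hx y ⟨w, hy⟩
    obtain ⟨t, u, v, hx'⟩ := hSel x hx
    rw [MonoidHom.mem_ker, cm, map_mul, map_mul, map_mul, map_inv, map_inv, hx', hy, comm_W,
      mul_inv_cancel_right, mul_inv_cancel]
  set T : Kˣ → Γ := fun b => L (tor C b) with hTdef
  have hT : ∀ b t u v, σ (T b * e t u v * (T b)⁻¹) = σ (e ((C.chi b : K) * t)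
      ((C.phi (C.chi b) : K) * u) ((psi C (C.chi b) : K) * v)) := fun b t u v => by
    rw [map_mul, map_mul, map_inv, he, he, hTdef, hL, conj_el]
  have hTW : ∀ b, ∀ x ∈ W, T b * x * (T b)⁻¹ ∈ W := by
    rintro b x ⟨v, hv⟩
    exact ⟨(psi C (C.chi b) : K) * v, by rw [map_mul, map_mul, map_inv, hv, hTdef, hL, conj_el, mul_zero, mul_zero]⟩
  have hTV : ∀ b, ∀ x ∈ V, T b * x * (T b)⁻¹ ∈ V := by
    rintro b x ⟨u, v, hv⟩
    exact ⟨(C.phi (C.chi b) : K) * u, (psi C (C.chi b) : K) * v,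
      by rw [map_mul, map_mul, map_inv, hv, hTdef, hL, conj_el, mul_zero]⟩
  have hTS : ∀ b, ∀ x ∈ S, T b * x * (T b)⁻¹ ∈ S := by
    intro b x hx
    obtain ⟨t, u, v, hv⟩ := hSel x hx
    exact (mem_subU C).2 ⟨(C.chi b : K) * t, (C.phi (C.chi b) : K) * u, (psi C (C.chi b) : K) * v,
      by rw [map_mul, map_mul, map_inv, hv, hTdef, hL, conj_el]⟩
  have hTT : ∀ b c, σ (T b * T c) = σ (T c * T b) := fun b c => by
    rw [map_mul, map_mul, hTdef, hL, hL, ← map_mul, ← map_mul, mul_comm]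
  have hsum : ∀ t u v u' v', σ (e t (u + u') (v + v')) = σ (e t u v * e 0 u' v') := fun t u v u' v' => by
    rw [map_mul, he, he, he, el_mul_low]
  have hsplitV : ∀ u v, σ (e 0 u v) = σ (e 0 u 0 * e 0 0 v) := fun u v => by
    rw [← hsum, add_zero, zero_add]
  have hsplit : ∀ t u v, σ (e t u v) = σ (e t 0 0 * e 0 u v) := fun t u v => by
    rw [← hsum, zero_add, zero_add]
  have hsumt : ∀ t t', ∃ y ∈ V, σ (e t 0 0 * e t' 0 0) = σ (e (t + t') 0 0 * y) := fun t t' => by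
    obtain ⟨U₁, V₁, hUV⟩ := mul_mem_posU C t 0 0 t' 0 0
    exact ⟨e 0 U₁ V₁, heV _ _, by rw [← hsplit, map_mul, he, he, he, hUV]⟩
  -- a torus element moving all three layers
  obtain ⟨b₀, hb1, hb2⟩ : ∃ b : Kˣ, b ≠ 1 ∧ b ≠ -1 := by
    obtain ⟨l, l1, l2, l3⟩ := exists_linear C hm
    refine ⟨Units.mk0 l l1, fun h => l3 ?_, fun h => l2 ?_⟩
    · rw [show l = 1 from congrArg Units.val h]; linear_combination C.three_eq_zero
    · rw [show l = -1 from congrArg Units.val h, add_neg_cancel]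
  set X₀ := C.chi b₀ with hX₀
  have hX1 : X₀ ≠ 1 := fun h => hb1 (C.chi_eq_iff (Or.inl rfl) h)
  have hX2 : X₀ ≠ -1 := fun h => hb2 (C.chi_eq_iff (Or.inr rfl) h)
  have hsub : ∀ {a : Kˣ}, a ≠ 1 → (a : K) - 1 ≠ 0 := fun {a} h h' =>
    h (Units.ext (sub_eq_zero.1 h'))
  have hψ1 : (psi C X₀ : K) - 1 ≠ 0 := hsub fun h => hX1 (C.psi_fix h)
  have hφ1 : (C.phi X₀ : K) - 1 ≠ 0 := hsub fun h => by
    rcases C.phi_fix (w := X₀) (by rw [h, one_mul]) with h | h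
    exacts [hX1 h, hX2 h]
  have hχ1 : (X₀ : K) - 1 ≠ 0 := hsub hX1
  set t₀ := T b₀
  have hroot : ∀ r : K, r ≠ 0 → ∃ b, (C.chi b : K) = r := fun r hr => by
    obtain ⟨b, hb⟩ := (chi_bijective C).2 (Units.mk0 r hr)
    exact ⟨b, by rw [hb]; rfl⟩
  -- the involution of the torus
  set a := T (-1) with hadef
  have ha : ∀ t u v, σ (a * e t u v * a⁻¹) = σ (e (-t) u (-v)) := fun t u v => by
    rw [hadef, hT, C.chi_neg_one, phi_neg_one, psi_neg_one]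
    simp
  -- FIRST LAYER
  have C₀ : Comp σ S σ.ker ⊥ := comp_bot (hkW.trans (hWV.trans hVS))
  have hzero : ∀ x ∈ σ.ker, C₀.proj x = x := fun x hx => C₀.proj_eq hx (one_mem _) (mul_one x).symm
  have hnorm0 : ∀ g : Γ, ∀ b ∈ (⊥ : Subgroup Γ), g * b * g⁻¹ ∈ (⊥ : Subgroup Γ) := fun g b hb => by
    rw [Subgroup.mem_bot.1 hb, mul_one, mul_inv_cancel]; exact one_mem _
  have k1 : ∀ x ∈ S, ∀ y ∈ W, ∀ y' ∈ W, cm x (y * y') = cm x y * cm x y' := fun x hx y hy y' hy' => by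
    have := C₀.pair_right hc (hVS (hWV hy)) (hcmK x hx y hy) (hcmK x hx y' hy') (hcmK x hx _ (mul_mem hy hy'))
    rwa [hzero _ (hcmK x hx _ (mul_mem hy hy')), hzero _ (hcmK x hx y hy), hzero _ (hcmK x hx y' hy')] at this
  have k2 : ∀ x ∈ S, ∀ x' ∈ S, ∀ y ∈ W, cm (x * x') y = cm x y * cm x' y := fun x hx x' hx' y hy => by
    have := C₀.pair_left hc hx (hcmK x hx y hy) (hcmK x' hx' y hy) (hcmK _ (mul_mem hx hx') y hy)
    rwa [hzero _ (hcmK _ (mul_mem hx hx') y hy), hzero _ (hcmK x hx y hy), hzero _ (hcmK x' hx' y hy)] at this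
  have kconj : ∀ g x y, x ∈ S → y ∈ W → cm (g * x * g⁻¹) (g * y * g⁻¹) = cm x y := fun g x y hx hy => by
    rw [show cm (g * x * g⁻¹) (g * y * g⁻¹) = g * cm x y * g⁻¹ by unfold cm; group,
      mem_comm hc (hcmK x hx y hy), mul_inv_cancel_right]
  have kinv : ∀ x ∈ S, ∀ v, cm x (e 0 0 (-v)) = (cm x (e 0 0 v))⁻¹ := fun x hx v => by
    refine eq_inv_of_mul_eq_one_right ?_
    rw [← k1 x hx _ (heW v) _ (heW (-v)), cm_congr hc (x' := x) (y' := 1) rfl (by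
      rw [← hsum, add_zero, add_neg_cancel, he, el_zero, map_one])]
    simp [cm]
  have hVW1 : ∀ u w, cm (e 0 u 0) (e 0 0 w) = 1 := fun u w => by
    refine hinvol _ (hcmK _ (heS _ _ _) _ (heW w)) ?_
    rw [← kinv _ (heS _ _ _), ← kconj a _ _ (heS 0 u 0) (heW w)]
    exact cm_congr hc (by rw [ha, neg_zero]) (by rw [ha, neg_zero])
  obtain ⟨l, l1, l2, l3⟩ := exists_linear C hm
  have hid : (id (1 : K))⁻¹ + (id l)⁻¹ ≠ (id (1 + l))⁻¹ := fun h => l3 (by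
    simp only [id, inv_one] at h
    field_simp at h
    linear_combination h)
  have hWW1 : ∀ v w, cm (e 0 0 v) (e 0 0 w) = 1 := by
    refine pairing_eq_one _ (fun x x' y => ?_) (fun x y y' => ?_) id (· ≠ 0) (fun _ h => h)
      (fun r x y hr => ?_) ⟨1, l, one_ne_zero, l1, l2, hid⟩
    · rw [← k2 _ (heS _ _ _) _ (heS _ _ _) _ (heW y)]
      exact cm_congr hc (by rw [← hsum, add_zero]) rfl
    · rw [← k1 _ (heS _ _ _) _ (heW y) _ (heW y')]
      exact cm_congr hc rfl (by rw [← hsum, add_zero])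
    · obtain ⟨X, hX⟩ := (psi_bijective C).2 (Units.mk0 r hr)
      obtain ⟨b, hb⟩ := (chi_bijective C).2 X
      rw [← kconj (T b) _ _ (heS 0 0 x) (heW y)]
      refine cm_congr hc ?_ ?_ <;> rw [hT, hb, hX, mul_zero, mul_zero] <;> rfl
  have hAW1 : ∀ t w, cm (e t 0 0) (e 0 0 w) = 1 := by
    obtain ⟨l', l1', l2', l3'⟩ := exists_twisted C hm
    refine pairing_eq_one _ (fun x x' y => ?_) (fun x y y' => ?_) (fun r => C.f r ^ 3 * r ^ 2) (· ≠ 0)
      (fun r h => mul_ne_zero (pow_ne_zero _ ((map_ne_zero C.f).2 h)) (pow_ne_zero _ h))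
      (fun r x y hr => ?_) ⟨1, l', one_ne_zero, l1', l2', l3'⟩
    · obtain ⟨z, ⟨U₁, V₁, hz⟩, e1⟩ := hsumt x x'
      have hz1 : cm z (e 0 0 y) = 1 := by
        rw [cm_congr hc (hz.trans (he _ _ _).symm) rfl,
          cm_congr hc (hsplitV U₁ V₁) rfl, k2 _ (heS _ _ _) _ (heS _ _ _) _ (heW y), hVW1, hWW1, one_mul]
      rw [← k2 _ (heS _ _ _) _ (heS _ _ _) _ (heW y), cm_congr hc e1 rfl,
        k2 _ (heS _ _ _) _ (hVS ⟨U₁, V₁, hz⟩) _ (heW y), hz1, mul_one]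
    · rw [← k1 _ (heS _ _ _) _ (heW y) _ (heW y')]
      exact cm_congr hc rfl (by rw [← hsum, add_zero])
    · obtain ⟨b, hb⟩ := hroot r hr
      rw [← kconj (T b) _ _ (heS x 0 0) (heW y)]
      have hψ : (psi C (C.chi b) : K) = C.f r ^ 3 * r ^ 2 := by
        rw [psi_apply, Units.val_mul, Units.val_pow_eq_pow_val, Units.val_pow_eq_pow_val, ← hb]
        rfl
      refine cm_congr hc ?_ ?_
      · rw [hT, mul_zero, mul_zero, hb]
      · rw [hT, mul_zero, mul_zero, hψ]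
  have hSW : ∀ g ∈ S, ∀ y ∈ W, cm g y = 1 := by
    rintro g hg y ⟨w, hw⟩
    obtain ⟨t, u, v, hg'⟩ := hSel g hg
    rw [cm_congr hc (hg'.trans (he _ _ _).symm) (hw.trans (he _ _ _).symm), cm_congr hc (hsplit t u v) rfl,
      k2 _ (heS _ _ _) _ (heS _ _ _) _ (heW w), hAW1, one_mul, cm_congr hc (hsplitV u v) rfl,
      k2 _ (heS _ _ _) _ (heS _ _ _) _ (heW w), hVW1, hWW1, one_mul]
  obtain ⟨B₁, C₁, -, hB₁⟩ := C₀.extend hc hkW (hWV.trans hVS) t₀ (hTW b₀) (hnorm0 _)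
    (fun g hg y hy => by rw [hSW g hg y hy]; exact one_mem _)
    (by
      rintro x ⟨v, hv⟩
      refine ⟨e 0 0 (((psi C X₀ : K) - 1)⁻¹ * v), heW _, ?_⟩
      rw [MonoidHom.mem_ker, map_mul, map_inv, map_mul _ _ (e 0 0 _)⁻¹, map_inv, hT, he, he, hv, inv_low,
        ← hX₀, mul_zero, mul_zero, el_mul_low, inv_mul_eq_one]
      congr 1
      · simp
      · field_simp; ring)
    (by
      rintro y ⟨v, hv⟩ hk
      rw [MonoidHom.mem_ker, map_mul, map_mul, map_mul, map_inv, map_inv, hv, hL, conj_el,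
        ← hX₀, mul_zero, mul_zero, inv_low, el_mul_low, ← el_zero C] at hk
      have h0 := (el_inj C hk).2.2
      rw [← sub_eq_add_neg, ← sub_one_mul, mul_eq_zero, or_iff_right hψ1] at h0
      rw [MonoidHom.mem_ker, hv, h0, el_zero])
  have hTB₁ : ∀ b, ∀ x ∈ B₁, T b * x * (T b)⁻¹ ∈ B₁ := fun b =>
    hB₁ _ (hTT b b₀) (hTW b) (hnorm0 _)
  -- SECOND LAYER
  have q1 : ∀ x ∈ S, ∀ y ∈ V, ∀ y' ∈ V, C₁.proj (cm x (y * y')) = C₁.proj (cm x y) * C₁.proj (cm x y') :=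
    fun x hx y hy y' hy' =>
      C₁.pair_right hc (hVS hy) (hcmW x hx y hy) (hcmW x hx y' hy') (hcmW x hx _ (mul_mem hy hy'))
  have q2 : ∀ x ∈ S, ∀ x' ∈ S, ∀ y ∈ V, C₁.proj (cm (x * x') y) = C₁.proj (cm x y) * C₁.proj (cm x' y) :=
    fun x hx x' hx' y hy =>
      C₁.pair_left hc hx (hcmW x hx y hy) (hcmW x' hx' y hy) (hcmW _ (mul_mem hx hx') y hy)
  have qW : ∀ x ∈ S, ∀ y ∈ W, C₁.proj (cm x y) = 1 := fun x hx y hy => by
    rw [hSW x hx y hy]; exact (C₁.proj_eq_one_iff (one_mem _)).2 (one_mem _)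
  have qW' : ∀ y ∈ W, ∀ x ∈ S, C₁.proj (cm y x) = 1 := fun y hy x hx => by
    have h1 : cm y x = (cm x y)⁻¹ := by unfold cm; group
    rw [h1, hSW x hx y hy, inv_one]; exact (C₁.proj_eq_one_iff (one_mem _)).2 (one_mem _)
  have q1e : ∀ x ∈ S, ∀ u u', C₁.proj (cm x (e 0 (u + u') 0)) =
      C₁.proj (cm x (e 0 u 0)) * C₁.proj (cm x (e 0 u' 0)) := fun x hx u u' => by
    rw [← q1 x hx _ (heV _ _) _ (heV _ _)]
    exact congrArg _ (cm_congr hc rfl (by rw [← hsum, add_zero]))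
  have hVV2 : ∀ u u', C₁.proj (cm (e 0 u 0) (e 0 u' 0)) = 1 := by
    obtain ⟨x₁, x₂, x₃, n1, n2, n3, hsq, hne⟩ := exists_square_sum C hm
    refine pairing_eq_one _ (fun x x' y => ?_) (fun x y y' => q1e _ (heS _ _ _) y y') id
      (fun r => ∃ x, x ≠ 0 ∧ r = x ^ 2) (fun r ⟨x, hx, e⟩ => e ▸ pow_ne_zero _ hx)
      (fun r x y hr => ?_) ⟨x₁ ^ 2, x₂ ^ 2, ⟨x₁, n1, rfl⟩, ⟨x₂, n2, rfl⟩, ⟨x₃, n3, hsq⟩, fun h => ?_⟩
    · rw [← q2 _ (heS _ _ _) _ (heS _ _ _) _ (heV y 0)]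
      exact congrArg _ (cm_congr hc (by rw [← hsum, add_zero]) rfl)
    · obtain ⟨z, hz, rfl⟩ := hr
      obtain ⟨b, hb⟩ : ∃ b, (C.phi (C.chi b) : K) = z ^ 2 := by
        obtain ⟨w, hw⟩ := C.mem_phi_range (Units.mk0 z hz)
        obtain ⟨b, hb⟩ := (chi_bijective C).2 (w * w)
        refine ⟨b, ?_⟩
        rw [hb, map_mul]
        rcases hw with h | h
        · rw [← h, Units.val_mul, Units.val_mk0, pow_two]
        · rw [show C.phi w = -1 * Units.mk0 z hz by rw [h, ← mul_assoc, neg_mul_neg, one_mul, one_mul],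
            Units.val_mul, Units.val_mul, Units.val_mk0, pow_two]
          simp
      rw [← C₁.pair_conj hc (g := T b) (hcmW _ (heS 0 x 0) _ (heV y 0)) (hTB₁ b)]
      refine congrArg _ (cm_congr hc ?_ ?_) <;> rw [hT, hb, mul_zero, mul_zero] <;> rfl
    · simp only [id] at h
      rw [inv_add_inv (pow_ne_zero _ n1) (pow_ne_zero _ n2), hsq] at h
      have h5 : x₃ ^ 2 * x₃ ^ 2 = x₁ ^ 2 * x₂ ^ 2 := by
        field_simp at h
        linear_combination h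
      refine hne (sub_eq_zero.1 (mul_self_eq_zero.1 ?_))
      linear_combination h5 + (x₁ ^ 2 + x₂ ^ 2 + x₃ ^ 2) * hsq - x₁ ^ 2 * x₂ ^ 2 * C.three_eq_zero
  have hAV2 : ∀ t u, C₁.proj (cm (e t 0 0) (e 0 u 0)) = 1 := fun t u => by
    refine hinvol _ (C₁.proj_spec (hcmW _ (heS _ _ _) _ (heV _ _))).1 ?_
    refine eq_inv_of_mul_eq_one_right ?_
    obtain ⟨z, ⟨U₁, V₁, hz⟩, e1⟩ := hsumt t (-t)
    have e2 : C₁.proj (cm (e t 0 0 * e (-t) 0 0) (e 0 u 0)) = 1 := by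
      rw [cm_congr hc (e1.trans (show σ (e (t + -t) 0 0 * z) = σ (e 0 U₁ V₁) by
          rw [map_mul, he, he, hz, add_neg_cancel, el_zero, one_mul])) rfl, cm_congr hc (hsplitV U₁ V₁) rfl,
        q2 _ (heS _ _ _) _ (heS _ _ _) _ (heV u 0), hVV2, qW' _ (heW _) _ (heS _ _ _), one_mul]
    rw [q2 _ (heS _ _ _) _ (heS _ _ _) _ (heV u 0)] at e2
    convert e2 using 2
    rw [← C₁.pair_conj hc (g := a) (hcmW _ (heS (-t) 0 0) _ (heV u 0)) (hTB₁ (-1))]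
    exact congrArg _ (cm_congr hc (by rw [ha, neg_neg, neg_zero]) (by rw [ha, neg_zero]))
  have hSV : ∀ g ∈ S, ∀ y ∈ V, cm g y ∈ B₁ := by
    rintro g hg y ⟨u', v', hy⟩
    refine (C₁.proj_eq_one_iff (hcmW g hg y ⟨u', v', hy⟩)).1 ?_
    obtain ⟨t, u, v, hg'⟩ := hSel g hg
    rw [cm_congr hc (hg'.trans (he _ _ _).symm) (hy.trans (he _ _ _).symm),
      cm_congr hc (hsplit t u v) (hsplitV u' v'),
      q2 _ (heS _ _ _) _ (heS _ _ _) _ (mul_mem (heV _ _) (heV _ _)),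
      q1 _ (heS _ _ _) _ (heV _ _) _ (heV _ _), q1 _ (heS _ _ _) _ (heV _ _) _ (heV _ _),
      hAV2, qW _ (heS _ _ _) _ (heW _), qW _ (heS _ _ _) _ (heW _), cm_congr hc (hsplitV u v) rfl,
      q2 _ (heS _ _ _) _ (heS _ _ _) _ (heV u' 0), hVV2, qW' _ (heW _) _ (heS _ _ _)]
    simp
  obtain ⟨B₂, C₂, hB12, hB₂⟩ := C₁.extend hc hWV hVS t₀ (hTV b₀) (hTB₁ b₀) hSV
    (by
      rintro x ⟨u, v, hv⟩
      refine ⟨e 0 (((C.phi X₀ : K) - 1)⁻¹ * u) 0, heV _ _, v, ?_⟩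
      rw [map_mul, map_inv, map_mul _ _ (e 0 _ _)⁻¹, map_inv, hT, he, he, hv, inv_low, ← hX₀, mul_zero,
        el_mul_low, inv_mul_eq_iff_eq_mul, el_mul_low]
      congr 1
      · field_simp; ring
      · simp)
    (by
      rintro y ⟨u, v, hv⟩ ⟨w, hk⟩
      rw [map_mul, map_mul, map_mul, map_inv, map_inv, hv, hL, conj_el,
        ← hX₀, mul_zero, inv_low, el_mul_low] at hk
      have h0 := (el_inj C hk).2.1
      rw [← sub_eq_add_neg, ← sub_one_mul, mul_eq_zero, or_iff_right hφ1] at h0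
      exact ⟨v, by rw [hv, h0]⟩)
  have hTB₂ : ∀ b, ∀ x ∈ B₂, T b * x * (T b)⁻¹ ∈ B₂ := fun b =>
    hB₂ _ (hTT b b₀) (hTV b) (hTB₁ b)
  -- THIRD LAYER
  have r1 : ∀ x ∈ S, ∀ y ∈ S, ∀ y' ∈ S, C₂.proj (cm x (y * y')) = C₂.proj (cm x y) * C₂.proj (cm x y') :=
    fun x hx y hy y' hy' =>
      C₂.pair_right hc hy (hcmV x hx y hy) (hcmV x hx y' hy') (hcmV x hx _ (mul_mem hy hy'))
  have r2 : ∀ x ∈ S, ∀ x' ∈ S, ∀ y ∈ S, C₂.proj (cm (x * x') y) = C₂.proj (cm x y) * C₂.proj (cm x' y) :=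
    fun x hx x' hx' y hy =>
      C₂.pair_left hc hx (hcmV x hx y hy) (hcmV x' hx' y hy) (hcmV _ (mul_mem hx hx') y hy)
  have rV : ∀ x ∈ S, ∀ y ∈ V, C₂.proj (cm x y) = 1 := fun x hx y hy =>
    (C₂.proj_eq_one_iff (hcmV x hx y (hVS hy))).2 (hB12 (hSV x hx y hy))
  have rV' : ∀ y ∈ V, ∀ x ∈ S, C₂.proj (cm y x) = 1 := fun y hy x hx => by
    refine (C₂.proj_eq_one_iff (hcmV y (hVS hy) x hx)).2 (hB12 ?_)
    rw [show cm y x = (cm x y)⁻¹ by unfold cm; group]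
    exact inv_mem (hSV x hx y hy)
  have hAA3 : ∀ t t', C₂.proj (cm (e t 0 0) (e t' 0 0)) = 1 := by
    refine pairing_eq_one _ (fun x x' y => ?_) (fun x y y' => ?_) id (· ≠ 0) (fun _ h => h)
      (fun r x y hr => ?_) ⟨1, l, one_ne_zero, l1, l2, hid⟩
    · obtain ⟨z, hz, e1⟩ := hsumt x x'
      rw [← r2 _ (heS _ _ _) _ (heS _ _ _) _ (heS y 0 0), cm_congr hc e1 rfl,
        r2 _ (heS _ _ _) _ (hVS hz) _ (heS y 0 0), rV' z hz _ (heS _ _ _), mul_one]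
    · obtain ⟨z, hz, e1⟩ := hsumt y y'
      rw [← r1 _ (heS _ _ _) _ (heS _ _ _) _ (heS y' 0 0), cm_congr hc rfl e1,
        r1 _ (heS _ _ _) _ (heS _ _ _) _ (hVS hz), rV _ (heS _ _ _) z hz, mul_one]
    · obtain ⟨b, hb⟩ := hroot r hr
      rw [← C₂.pair_conj hc (g := T b) (hcmV _ (heS x 0 0) _ (heS y 0 0)) (hTB₂ b)]
      refine congrArg _ (cm_congr hc ?_ ?_) <;> rw [hT, hb, mul_zero, mul_zero] <;> rfl
  have hSS : ∀ g ∈ S, ∀ y ∈ S, cm g y ∈ B₂ := by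
    intro g hg y hy
    refine (C₂.proj_eq_one_iff (hcmV g hg y hy)).1 ?_
    obtain ⟨t, u, v, hg'⟩ := hSel g hg
    obtain ⟨t', u', v', hy'⟩ := hSel y hy
    rw [cm_congr hc (hg'.trans (he _ _ _).symm) (hy'.trans (he _ _ _).symm),
      cm_congr hc (hsplit t u v) (hsplit t' u' v'),
      r1 _ (mul_mem (heS _ _ _) (heS _ _ _)) _ (heS _ _ _) _ (heS _ _ _),
      rV _ (mul_mem (heS _ _ _) (heS _ _ _)) _ (heV _ _), r2 _ (heS _ _ _) _ (heS _ _ _) _ (heS _ _ _),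
      hAA3, rV' _ (heV _ _) _ (heS _ _ _), mul_one, mul_one]
  obtain ⟨B₃, C₃, -, -⟩ := C₂.extend hc hVS le_rfl t₀ (hTS b₀) (hTB₂ b₀) hSS
    (by
      intro x hx
      obtain ⟨t, u, v, hv⟩ := hSel x hx
      set t' := ((X₀ : K) - 1)⁻¹ * t with ht'
      obtain ⟨I₁, J₁, h1⟩ := inv_el C t' 0 0
      obtain ⟨U₂, V₂, h2⟩ := mul_mem_posU C ((X₀ : K) * t') 0 0 (-t') I₁ J₁
      obtain ⟨I₃, J₃, h3⟩ := inv_el C ((X₀ : K) * t' + -t') U₂ V₂
      obtain ⟨U₄, V₄, h4⟩ := mul_mem_posU C (-((X₀ : K) * t' + -t')) I₃ J₃ t u v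
      refine ⟨e t' 0 0, heS _ _ _, U₄, V₄, ?_⟩
      rw [map_mul, map_inv, map_mul _ _ (e t' 0 0)⁻¹, map_inv, hT, he, he, hv, ← hX₀, mul_zero, mul_zero,
        h1, h2, h3, h4]
      congr 1
      rw [ht']; field_simp; ring)
    (by
      rintro y hy ⟨a', b', hk⟩
      obtain ⟨t, u, v, hv⟩ := hSel y hy
      obtain ⟨I₁, J₁, h1⟩ := inv_el C t u v
      obtain ⟨U₂, V₂, h2⟩ := mul_mem_posU C ((X₀ : K) * t) ((C.phi X₀ : K) * u) ((psi C X₀ : K) * v) (-t) I₁ J₁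
      rw [map_mul, map_mul, map_mul, map_inv, map_inv, hv, hL, conj_el, ← hX₀, h1, h2] at hk
      have h0 := (el_inj C hk).1
      rw [← sub_eq_add_neg, ← sub_one_mul, mul_eq_zero, or_iff_right hχ1] at h0
      exact ⟨u, v, by rw [hv, h0]⟩)
  have hidx : ¬ 3 ∣ S.index := by
    rw [Subgroup.index_comap_of_surjective _ (fun x => ⟨L x, hL x⟩)]
    intro hd
    have h := Subgroup.card_mul_index (subU (K := K) (m := m))
    have hcU : Nat.card ↥(subU (K := K) (m := m)) = (3 ^ (2 * m + 1)) ^ 3 := by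
      rw [subU, Nat.card_congr (Subgroup.subgroupOfEquivOfLe inf_le_right).toEquiv, C.card_posU]
    rw [hcU, C.card_twisted, mul_assoc] at h
    have h' := Nat.eq_of_mul_eq_mul_left (pow_pos (pow_pos (by norm_num) _) 3) h
    rw [h', Nat.prime_three.dvd_mul] at hd
    have e : 3 ∣ 3 ^ (2 * m + 1) := dvd_pow_self 3 (by omega)
    have e3 : 3 ∣ (3 ^ (2 * m + 1)) ^ 3 := dvd_pow e (by omega)
    have := Nat.one_le_pow (2 * m + 1) 3 (by norm_num)
    omega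
  refine CoverKernel.eq_bot_of_complement hc h' h3 hidx (hkW.trans (hWV.trans hVS)) C₃.le ?_ ?_
  · exact eq_bot_iff.2 fun x hx => Subgroup.mem_bot.2 (C₃.inj x hx.1 hx.2)
  · refine le_antisymm (sup_le (hkW.trans (hWV.trans hVS)) C₃.le) fun x hx => ?_
    obtain ⟨z, hz, b, hb, rfl⟩ := C₃.dec x hx
    exact Subgroup.mul_mem_sup hz hb

end CfsgLib.Recognition.ReeCover
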