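/-
Eigenprojections of a representation of the additive group of a plane over a finite field.
-/
import Mathlib

set_option autoImplicit false

namespace CfsgLib.Recognition.ReeDegree

variable {K : Type*} [Field K] [Fintype K]

theorem exists_addChar (p : ℕ) [Fact p.Prime] [CharP K p] : ∃ ψ : AddChar K ℂ, ψ.IsPrimitive := by
  letI : Algebra (ZMod p) K := ZMod.algebra K p
  have hζ := Complex.isPrimitiveRoot_exp p (Fact.out : p.Prime).ne_zero
  let χ : AddChar (ZMod p) ℂ := AddChar.zmodChar p hζ.pow_eq_one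
  refine ⟨χ.compAddMonoidHom (Algebra.trace (ZMod p) K).toAddMonoidHom, AddChar.IsPrimitive.of_ne_one ?_⟩
  intro h
  obtain ⟨z, hz⟩ := Algebra.trace_surjective (ZMod p) K 1
  have h1 : χ 1 = 1 := by
    have := DFunLike.congr_fun h z
    simpa [hz] using this
  rw [show χ 1 = _ from AddChar.zmodChar_apply hζ.pow_eq_one 1, ZMod.val_one, pow_one] at h1
  exact hζ.ne_one (Fact.out : p.Prime).one_lt h1

variable (ψ : AddChar K ℂ) {V : Type*} [AddCommGroup V] [Module ℂ V] (R : K × K → Module.End ℂ V)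

/-- The projection onto the eigenspace of a linear character. -/
noncomputable def proj (w : K × K) : Module.End ℂ V :=
  ((Fintype.card K : ℂ) * Fintype.card K)⁻¹ •
    (∑ x : K × K, ψ (-(x.1 * w.1 + x.2 * w.2)) • R x : Module.End ℂ V)

variable {ψ R}

theorem mul_proj (hadd : ∀ x y, R x * R y = R (x + y)) (w x : K × K) :
    R x * proj ψ R w = ψ (x.1 * w.1 + x.2 * w.2) • proj ψ R w := by
  simp only [proj, mul_smul_comm, Finset.mul_sum]
  simp only [Finset.smul_sum]
  apply Fintype.sum_equiv (Equiv.addLeft x)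
  intro y
  rw [hadd, Equiv.coe_addLeft, smul_comm (ψ _) (_⁻¹ : ℂ), smul_smul (ψ _) (ψ _), ← AddChar.map_add_eq_mul, Prod.fst_add, Prod.snd_add]
  congr 3
  ring

variable [DecidableEq K]

theorem sum_plane (hψ : ψ.IsPrimitive) (w : K × K) :
    ∑ x : K × K, ψ (x.1 * w.1 + x.2 * w.2) =
      if w = 0 then (Fintype.card K : ℂ) * Fintype.card K else 0 := by
  simp only [Fintype.sum_prod_type, AddChar.map_add_eq_mul, ← Finset.mul_sum, ← Finset.sum_mul,
    AddChar.sum_mulShift _ hψ]
  rcases w with ⟨a, b⟩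
  by_cases ha : a = 0 <;> by_cases hb : b = 0 <;> simp [ha, hb, Prod.ext_iff]

theorem proj_mul_proj (hadd : ∀ x y, R x * R y = R (x + y)) (hψ : ψ.IsPrimitive) (w w' : K × K) :
    proj ψ R w * proj ψ R w' = if w = w' then proj ψ R w' else 0 := by
  conv_lhs => rw [proj]
  simp only [smul_mul_assoc, Finset.sum_mul, mul_proj hadd, smul_smul, ← Finset.sum_smul]
  have e : ∀ x : K × K, ψ (-(x.1 * w.1 + x.2 * w.2)) * ψ (x.1 * w'.1 + x.2 * w'.2) =
      ψ (x.1 * (w' - w).1 + x.2 * (w' - w).2) := fun x => by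
    rw [← AddChar.map_add_eq_mul, Prod.fst_sub, Prod.snd_sub]
    congr 1
    ring
  simp only [e, sum_plane hψ, sub_eq_zero, eq_comm (a := w')]
  have hq : ((Fintype.card K : ℂ) * Fintype.card K) ≠ 0 := by simp [Fintype.card_ne_zero]
  split_ifs with h
  · rw [inv_mul_cancel₀ hq, one_smul]
  · rw [mul_zero, zero_smul]

theorem sum_proj (hψ : ψ.IsPrimitive) (hR0 : R 0 = 1) : ∑ w, proj ψ R w = 1 := by
  simp only [proj, ← Finset.smul_sum]
  rw [Finset.sum_comm]
  simp only [← Finset.sum_smul]
  have e : ∀ x : K × K, ∑ w : K × K, ψ (-(x.1 * w.1 + x.2 * w.2)) =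
      if x = 0 then (Fintype.card K : ℂ) * Fintype.card K else 0 := fun x => by
    have := sum_plane hψ (-x)
    simp only [neg_eq_zero, Prod.fst_neg, Prod.snd_neg] at this
    rw [← this]
    refine Finset.sum_congr rfl fun w _ => ?_
    congr 1
    ring
  simp only [e]
  rw [Finset.sum_eq_single 0 (fun x _ hx => by rw [if_neg hx, zero_smul]) (by simp), if_pos rfl, hR0,
    smul_smul, inv_mul_cancel₀ (by simp [Fintype.card_ne_zero]), one_smul]

omit [DecidableEq K] in
theorem conj_proj (A B : Module.End ℂ V) (hAB : A * B = 1) (e : K × K → K × K) (he : Function.Bijective e)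
    (hconj : ∀ x, A * R x * B = R (e x)) (w w' : K × K)
    (hw : ∀ x, x.1 * w.1 + x.2 * w.2 = (e x).1 * w'.1 + (e x).2 * w'.2) :
    A * proj ψ R w = proj ψ R w' * A ∨ B * A ≠ 1 := by
  by_cases hBA : B * A = 1
  swap
  · exact Or.inr hBA
  refine Or.inl ?_
  have h : A * proj ψ R w * B = proj ψ R w' := by
    simp only [proj, mul_smul_comm, smul_mul_assoc, Finset.mul_sum, Finset.sum_mul, hconj, hw]
    congr 1
    apply Fintype.sum_bijective e he
    intro x
    rfl
  rw [← h, mul_assoc, hBA, mul_one]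

/-- The trace of an idempotent is a natural number, and vanishes only for the zero map. -/
theorem trace_idem [FiniteDimensional ℂ V] {P : Module.End ℂ V} (hP : P * P = P) :
    ∃ n : ℕ, LinearMap.trace ℂ V P = n ∧ (n = 0 → P = 0) := by
  have h := LinearMap.IsIdempotentElem.isProj_range P hP
  refine ⟨Module.finrank ℂ (LinearMap.range P), h.trace, fun h0 => ?_⟩
  exact LinearMap.range_eq_bot.1 (Submodule.finrank_eq_zero.1 h0)

omit [Fintype K] [DecidableEq K] in
/-- An average over a finite group whose other elements have trace zero. -/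
theorem card_dvd_finrank [FiniteDimensional ℂ V] {E : Type*} [Group E] [Fintype E] (ρ : Representation ℂ E V)
    (h : ∀ e, e ≠ 1 → LinearMap.trace ℂ V (ρ e) = 0) : Fintype.card E ∣ Module.finrank ℂ V := by
  classical
  set A : Module.End ℂ V := (Fintype.card E : ℂ)⁻¹ • ∑ e, ρ e with hA
  have hfix : ∀ e, ρ e * A = A := fun e => by
    rw [hA, mul_smul_comm, Finset.mul_sum]
    congr 1
    apply Fintype.sum_equiv (Equiv.mulLeft e)
    intro x
    rw [Equiv.coe_mulLeft, map_mul]
  have hsum : (∑ e, ρ e) * A = (Fintype.card E : ℂ) • A := by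
    rw [Finset.sum_mul, Finset.sum_congr rfl (fun e _ => hfix e), Finset.sum_const, Finset.card_univ,
      Nat.cast_smul_eq_nsmul]
  have hAA : A * A = A := by
    calc A * A = (Fintype.card E : ℂ)⁻¹ • ((∑ e, ρ e) * A) := by rw [← smul_mul_assoc, ← hA]
      _ = A := by rw [hsum, smul_smul, inv_mul_cancel₀ (by simp [Fintype.card_ne_zero]), one_smul]
  obtain ⟨n, hn, -⟩ := trace_idem hAA
  have h1 : LinearMap.trace ℂ V A = (Fintype.card E : ℂ)⁻¹ * Module.finrank ℂ V := by
    rw [hA, map_smul, map_sum, Finset.sum_eq_single 1 (fun e _ he => h e he) (by simp), map_one,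
      LinearMap.trace_one, smul_eq_mul]
  rw [hn] at h1
  refine ⟨n, Nat.cast_injective (R := ℂ) ?_⟩
  rw [Nat.cast_mul, h1, ← mul_assoc, mul_inv_cancel₀ (by simp [Fintype.card_ne_zero]), one_mul]

end CfsgLib.Recognition.ReeDegree
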