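/-
The lower bound for the degree of a non-trivial representation of a group of type ²G₂.
-/
import Mathlib
import Cfsg.Agent.Lib.Recognition.Ree.PlaneChar
import Cfsg.Agent.Lib.Recognition.Ree.Laws
import Cfsg.Agent.Lib.Chev.Twist.G2Fix
import Cfsg.Agent.Lib.Chev.Twist.G2Cent

set_option autoImplicit false
set_option maxRecDepth 20000

namespace CfsgLib.Recognition.ReeDegree

open Cfsg.Lie CfsgLib.Chev CfsgLib.Chev.TwG2 CfsgLib.Recognition.ReeU

universe v

variable {K : Type v} [Field K] [Fintype K] {m : ℕ} (C : Ctx K m)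

theorem el_conj_low (t u v : K) : el C t 0 0 * el C 0 u v * (el C t 0 0)⁻¹ = el C 0 u (v + t * u) := by
  rw [show el C 0 u (v + t * u) = el C 0 0 (t * u) * el C 0 u v by
    rw [el_mul_low, zero_add, add_comm], ← cm_low C t 0 0 u v, inv_mul_cancel_right]

include C in
/-- A faithful representation has degree at least `q² - q + 1`. -/
theorem le_dim (hm : 1 ≤ m) {V : Type*} [AddCommGroup V] [Module ℂ V] [FiniteDimensional ℂ V]
    (ρ : Representation ℂ (↥(twistedG2 K (3 ^ m))) V) (hinj : Function.Injective ρ) :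
    (3 ^ (2 * m + 1)) ^ 2 - 3 ^ (2 * m + 1) + 1 ≤ Module.finrank ℂ V := by
  classical
  haveI : Fact (Nat.Prime 3) := ⟨Nat.prime_three⟩
  haveI : CharP K 3 := charP_of_card_eq_prime_pow (f := 2 * m + 1) C.card
  obtain ⟨ψ, hψ⟩ := exists_addChar (K := K) 3
  set q := 3 ^ (2 * m + 1) with hq
  set R : K × K → Module.End ℂ V := fun x => ρ (el C 0 x.1 x.2) with hR
  have hadd : ∀ x y, R x * R y = R (x + y) := fun x y => by
    simp only [hR, ← map_mul, el_mul_low, Prod.fst_add, Prod.snd_add]
  have hR0 : R 0 = 1 := by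
    simp only [hR, Prod.fst_zero, Prod.snd_zero, el_zero, map_one]
  set P : K × K → Module.End ℂ V := proj ψ R with hP
  have hPP : ∀ w w', P w * P w' = if w = w' then P w' else 0 := proj_mul_proj hadd hψ
  have hPid : ∀ w, P w * P w = P w := fun w => by rw [hPP, if_pos rfl]
  choose r hr hr0 using fun w => trace_idem (hPid w)
  have hinv : ∀ g : ↥(twistedG2 K (3 ^ m)), ρ g⁻¹ * ρ g = 1 := fun g => by
    rw [← map_mul, inv_mul_cancel, map_one]
  have hinv' : ∀ g : ↥(twistedG2 K (3 ^ m)), ρ g * ρ g⁻¹ = 1 := fun g => by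
    rw [← map_mul, mul_inv_cancel, map_one]
  have hmove : ∀ (g : ↥(twistedG2 K (3 ^ m))) (e : K × K → K × K), Function.Bijective e →
      (∀ x, g * el C 0 x.1 x.2 * g⁻¹ = el C 0 (e x).1 (e x).2) → ∀ w w' : K × K,
      (∀ x, x.1 * w.1 + x.2 * w.2 = (e x).1 * w'.1 + (e x).2 * w'.2) →
      ρ g * P w = P w' * ρ g := fun g e he hc w w' hw =>
    (conj_proj (ρ g) (ρ g⁻¹) (hinv' g) e he (fun x => by simp only [hR, ← map_mul, hc]) w w' hw).resolve_right
      fun h => h (hinv g)
  have heq : ∀ g w w', ρ g * P w = P w' * ρ g → r w = r w' := fun g w w' h => by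
    have e1 : P w = ρ g⁻¹ * (P w' * ρ g) := by rw [← h, ← mul_assoc, hinv, one_mul]
    have e2 : LinearMap.trace ℂ V (P w) = LinearMap.trace ℂ V (P w') := by
      rw [e1, LinearMap.trace_mul_comm, mul_assoc, hinv', mul_one]
    rw [hr, hr] at e2
    exact_mod_cast e2
  -- all characters non-trivial on the centre occur equally often
  have horb : ∀ c : K, ∀ d : K, d ≠ 0 → r (c, d) = r (0, 1) := fun c d hd => by
    have h1 : r (c, d) = r (0, d) := by
      refine heq (el C (c / d) 0 0) _ _ (hmove _ (fun x => (x.1, x.2 + c / d * x.1)) ?_ ?_ _ _ fun x => ?_)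
      · exact ⟨fun x y h => by
          simp only [Prod.mk.injEq] at h
          exact Prod.ext h.1 (by rw [h.1] at h; exact add_right_cancel h.2),
          fun y => ⟨(y.1, y.2 - c / d * y.1), by simp⟩⟩
      · exact fun x => el_conj_low C _ _ _
      · field_simp; ring
    rw [h1]
    obtain ⟨Y, hY⟩ := (psi_bijective C).2 (Units.mk0 d hd)⁻¹
    obtain ⟨b, rfl⟩ := (chi_bijective C).2 Y
    refine (heq (tor C b) (0, 1) (0, d) (hmove _
      (fun x => ((C.phi (C.chi b) : K) * x.1, (psi C (C.chi b) : K) * x.2)) ?_ ?_ _ _ fun x => ?_)).symm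
    · exact ⟨fun x y h => by
        simp only [Prod.mk.injEq] at h
        exact Prod.ext (mul_left_cancel₀ (Units.ne_zero _) h.1) (mul_left_cancel₀ (Units.ne_zero _) h.2),
        fun y => ⟨((C.phi (C.chi b) : K)⁻¹ * y.1, (psi C (C.chi b) : K)⁻¹ * y.2), by
          simp [← mul_assoc]⟩⟩
    · intro x
      rw [conj_el, mul_zero]
    · rw [hY, Units.val_inv_eq_inv_val, Units.val_mk0]
      field_simp
      ring
  have htot : (∑ w, r w) = Module.finrank ℂ V := by
    have h : LinearMap.trace ℂ V (∑ w, P w) = LinearMap.trace ℂ V 1 := by rw [hP, sum_proj hψ hR0]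
    rw [map_sum, LinearMap.trace_one] at h
    simp only [hr] at h
    exact_mod_cast h
  have hcardK : Fintype.card K = q := C.card
  have hsplit : (∑ w, r w) = (∑ c, r (c, 0)) + q * ((q - 1) * r (0, 1)) := by
    rw [Fintype.sum_prod_type, ← hcardK]
    have e : ∀ c : K, ∑ d, r (c, d) = r (c, 0) + (Fintype.card K - 1) * r (0, 1) := fun c => by
      rw [← Finset.add_sum_erase _ _ (Finset.mem_univ (0 : K)),
        Finset.sum_congr rfl (fun d hd => horb c d (Finset.ne_of_mem_erase hd)), Finset.sum_const,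
        Finset.card_erase_of_mem (Finset.mem_univ _), Finset.card_univ, smul_eq_mul]
    simp only [e, Finset.sum_add_distrib, Finset.sum_const, Finset.card_univ, smul_eq_mul]
  have hr1 : 1 ≤ r (0, 1) := by
    by_contra hlt
    have h0 : ∀ c d : K, d ≠ 0 → P (c, d) = 0 := fun c d hd =>
      hr0 _ (by rw [horb c d hd]; omega)
    have h1 : R (0, 1) = 1 := by
      calc R (0, 1) = R (0, 1) * ∑ w, P w := by rw [hP, sum_proj hψ hR0, mul_one]
        _ = ∑ w, P w := by
          rw [Finset.mul_sum]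
          refine Finset.sum_congr rfl fun w _ => ?_
          by_cases hw : w.2 = 0
          · rw [hP, mul_proj hadd, hw]
            simp
          · rw [show P w = 0 from h0 w.1 w.2 hw, mul_zero]
        _ = 1 := by rw [hP, sum_proj hψ hR0]
    have h2 : el C 0 0 1 = el C 0 0 0 := by
      rw [el_zero]
      exact hinj (h1.trans (map_one ρ).symm)
    exact one_ne_zero (el_inj C h2).2.2
  have h27 : 27 ≤ q ∧ q % 8 = 3 ∧ q % 3 = 0 := C.q_facts hm
  have hge : q * (q - 1) ≤ Module.finrank ℂ V := by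
    rw [← htot, hsplit]
    calc q * (q - 1) ≤ q * ((q - 1) * r (0, 1)) := Nat.mul_le_mul_left _ (Nat.le_mul_of_pos_right _ hr1)
      _ ≤ _ := Nat.le_add_left _ _
  have hsq : q ^ 2 - q = q * (q - 1) := by rw [Nat.mul_sub_one, pow_two]
  rw [hsq]
  by_contra hlt
  have hk : Module.finrank ℂ V = q * (q - 1) := by omega
  -- in the extreme case involutions have trace zero
  have hzero : ∀ c, P (c, 0) = 0 := fun c => hr0 _ (by
    have h1 : q * (q - 1) ≤ q * ((q - 1) * r (0, 1)) :=
      Nat.mul_le_mul_left _ (Nat.le_mul_of_pos_right _ hr1)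
    have h2 : r (c, 0) ≤ ∑ c, r (c, 0) := Finset.single_le_sum (f := fun c => r (c, 0)) (fun _ _ => Nat.zero_le _) (Finset.mem_univ c)
    omega)
  have htr : LinearMap.trace ℂ V (ρ (tor C (-1))) = 0 := by
    rw [show ρ (tor C (-1)) = ∑ w, ρ (tor C (-1)) * P w by rw [← Finset.mul_sum, hP, sum_proj hψ hR0, mul_one],
      map_sum]
    refine Finset.sum_eq_zero fun w _ => ?_
    by_cases hw : w.2 = 0
    · rw [show w = (w.1, 0) from Prod.ext rfl hw, hzero, mul_zero, map_zero]
    · have hmv := hmove (tor C (-1)) (fun x => (x.1, -x.2))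
        ⟨fun x y h => by simpa [Prod.ext_iff] using h, fun y => ⟨(y.1, -y.2), by simp⟩⟩
        (fun x => by rw [conj_el, C.chi_neg_one, phi_neg_one, psi_neg_one]; simp) w (w.1, -w.2)
        (fun x => by simp)
      rw [show ρ (tor C (-1)) * P w = ρ (tor C (-1)) * P w * P w by rw [mul_assoc, hPid],
        LinearMap.trace_mul_comm, hmv, ← mul_assoc, hPP, if_neg, zero_mul, map_zero]
      intro e
      have e2 : w.2 = -w.2 := congrArg Prod.snd e
      exact hw (by linear_combination w.2 * C.three_eq_zero - e2)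
  have hinvol : ∀ t : ↥(twistedG2 K (3 ^ m)), t ≠ 1 → t * t = 1 → LinearMap.trace ℂ V (ρ t) = 0 := by
    intro t h1 h2
    obtain ⟨g, rfl⟩ := C.involution_conj hm h1 h2
    rw [map_mul ρ, map_mul ρ, LinearMap.trace_mul_comm, ← mul_assoc, hinv, one_mul]
    exact htr
  haveI : Fact (Nat.Prime 2) := ⟨Nat.prime_two⟩
  let E : Sylow 2 ↥(twistedG2 K (3 ^ m)) := default
  obtain ⟨h8, hsqE⟩ := C.sylow_two E
  have h8' : Fintype.card ↥(E : Subgroup ↥(twistedG2 K (3 ^ m))) = 8 := by
    rw [← Nat.card_eq_fintype_card]; exact h8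
  have hd := card_dvd_finrank (MonoidHom.comp ρ (E : Subgroup ↥(twistedG2 K (3 ^ m))).subtype)
    fun e he => hinvol _ (fun h => he (Subtype.ext h)) (hsqE _ e.2)
  rw [h8', hk] at hd
  have h6 : q * (q - 1) % 8 = 6 := by
    rw [Nat.mul_mod, h27.2.1, show (q - 1) % 8 = 2 by omega]
  omega

end CfsgLib.Recognition.ReeDegree
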