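/-
The Schur multiplier of the groups of type ²G₂ is trivial.
-/
import Mathlib
import Cfsg.Prelude.Def_KGroupFacts
import Cfsg.Agent.Lib.Schur.Trivial
import Cfsg.Agent.Lib.InvolChar.CentralTransfer
import Cfsg.Agent.Lib.Classical.SmallIso.PSL2
import Cfsg.Agent.Lib.Recognition.Ree.CoverThree

set_option autoImplicit false
set_option maxRecDepth 20000

namespace CfsgLib.Recognition.ReeMult

open Cfsg.Lie CfsgLib.Chev CfsgLib.Chev.TwG2 CfsgLib.Recognition.CoverLayers

universe v

variable {K : Type v} [Field K] [Fintype K] {m : ℕ} (C : Ctx K m)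

/-- Two elements commute if their images lie in a group generated by two elements which lift to central
elements, together with one further element. -/
theorem commute_of_central {Γ : Type*} [Group Γ] (H : Subgroup Γ) (N : Subgroup Γ) (hNH : N ≤ H)
    (hN : ∀ n ∈ N, ∀ h ∈ H, n * h = h * n) (hidx : N.relIndex H ≤ 2) (hpos : N.relIndex H ≠ 0) :
    ∀ x ∈ H, ∀ y ∈ H, x * y = y * x := by
  intro x hx y hy
  by_cases hxN : x ∈ N
  · exact hN x hxN y hy
  by_cases hyN : y ∈ N
  · exact (hN y hyN x hx).symm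
  have h2 : N.relIndex H = 2 := by
    rcases Nat.lt_or_ge (N.relIndex H) 2 with h | h
    · have h1 : N.relIndex H = 1 := by omega
      exact absurd (Subgroup.relIndex_eq_one.1 h1 hx) hxN
    · omega
  have hmem : x⁻¹ * y ∈ N := by
    have := (Subgroup.mul_mem_iff_of_index_two (H := N.subgroupOf H) h2
      (a := ⟨x⁻¹, inv_mem hx⟩) (b := ⟨y, hy⟩))
    simp only [Subgroup.mem_subgroupOf, Subgroup.coe_mul, inv_mem_iff, hxN, hyN] at this
    exact this.2 trivial
  have := hN _ hmem x hx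
  calc x * y = x * (x * (x⁻¹ * y)) := by group
    _ = x * ((x⁻¹ * y) * x) := by rw [this]
    _ = x * (x⁻¹ * y) * x := by group
    _ = y * x := by group

include C in
theorem not_dvd_two (hm : 1 ≤ m) {Γ : Type v} [Group Γ] [Finite Γ] (σ : Γ →* ↥(twistedG2 K (3 ^ m)))
    (hsurj : Function.Surjective σ) (hc : σ.ker ≤ Subgroup.center Γ) (h' : σ.ker ≤ commutator Γ) :
    ¬ 2 ∣ Nat.card σ.ker := by
  classical
  haveI : Fact (Nat.Prime 2) := ⟨Nat.prime_two⟩
  obtain ⟨φ, hmem, hup, hnw, -, hdiag⟩ := C.exists_pairHom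
  set Φ := φ.codRestrict (twistedG2 K (3 ^ m)) hmem
  set a : ↥(twistedG2 K (3 ^ m)) := ⟨C.par (-1), (C.range_le ⟨-1, rfl⟩).2⟩ with had
  have ha1 : a ≠ 1 := fun h => C.neg_one_ne (C.par_injective
    ((congrArg Subtype.val h).trans (map_one C.par).symm))
  have ha2 : a * a = 1 := Subtype.ext (show C.par (-1) * C.par (-1) = 1 by
    rw [← map_mul, neg_mul_neg, one_mul, map_one])
  have hperf : commutator (Matrix.SpecialLinearGroup (Fin 2) K) = ⊤ :=
    CfsgLib.Classical.SmallIso.commutator_sl_two (by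
      rw [C.card]; exact (show 4 ≤ 3 ^ 3 by norm_num).trans (Nat.pow_le_pow_right (by norm_num) (by omega)))
  -- a lift of `a` is central in the preimage of its centraliser
  have hcent : ∀ x y, σ x = a → a * σ y = σ y * a → x * y = y * x := by
    intro x y hx hy
    have hker : ∀ g, a * σ g = σ g * a → cm x g ∈ σ.ker := fun g hg => by
      rw [MonoidHom.mem_ker, cm, map_mul, map_mul, map_mul, map_inv, map_inv, hx, hg,
        mul_inv_cancel_right, mul_inv_cancel]
    have hcommΦ : ∀ g, a * Φ g = Φ g * a := fun g => Subtype.ext (C.pair_comm hup hnw hdiag g).eq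
    choose L hL using hsurj
    have hadd : ∀ g h, a * σ g = σ g * a → a * σ h = σ h * a → cm x (g * h) = cm x g * cm x h := by
      intro g h hg hh
      rw [show cm x (g * h) = cm x g * (g * cm x h * g⁻¹) by unfold cm; group, mem_comm hc (hker h hh) g,
        mul_inv_cancel_right]
    letI : CommGroup σ.ker := { (inferInstance : Group σ.ker) with
      mul_comm := fun u v => Subtype.ext ((mem_comm hc v.2) u) }
    let f : Matrix.SpecialLinearGroup (Fin 2) K →* σ.ker := MonoidHom.mk'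
      (fun g => ⟨cm x (L (Φ g)), hker _ (by rw [hL]; exact hcommΦ g)⟩) fun g h => Subtype.ext (by
        show cm x (L (Φ (g * h))) = cm x (L (Φ g)) * cm x (L (Φ h))
        rw [← hadd _ _ (by rw [hL]; exact hcommΦ g) (by rw [hL]; exact hcommΦ h)]
        exact cm_congr hc rfl (by rw [hL, map_mul σ, hL, hL, map_mul]))
    have hf : ∀ g, cm x (L (Φ g)) = 1 := fun g =>
      congrArg Subtype.val (CfsgLib.Schur.hom_eq_one_of_perfect hperf f g)
    obtain ⟨s, hs⟩ := C.centralizer_decomp hup hnw hdiag (σ y).2 (congrArg Subtype.val hy)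
    have h0 : cm x y = 1 := by
      rcases hs with hs | hs
      · rw [← hf s]; exact cm_congr hc rfl ((Subtype.ext hs : σ y = Φ s).trans (hL _).symm)
      · rw [cm_congr hc rfl (show σ y = σ (x * L (Φ s)) by
          rw [map_mul, hx, hL]; exact Subtype.ext hs), hadd _ _ (by rw [hx]) (by rw [hL]; exact hcommΦ s),
          hf s, mul_one]
        simp [cm]
    rwa [cm, mul_inv_eq_one, mul_inv_eq_iff_eq_mul] at h0
  -- a Sylow subgroup containing `a`
  obtain ⟨E, hE⟩ := (IsPGroup.of_card (n := 1) (by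
    rw [Nat.card_zpowers, orderOf_eq_prime (by rw [pow_two, ha2]) ha1, pow_one]) :
      IsPGroup 2 (Subgroup.zpowers a)).exists_le_sylow
  have haE : a ∈ (E : Subgroup _) := hE (Subgroup.mem_zpowers a)
  obtain ⟨h8, hsq⟩ := C.sylow_two E
  have hEcomm : ∀ x ∈ (E : Subgroup ↥(twistedG2 K (3 ^ m))), ∀ y ∈ (E : Subgroup _), x * y = y * x := by
    intro x hx y hy
    have h1 := hsq _ (mul_mem hx hy)
    have hx' : x⁻¹ = x := inv_eq_of_mul_eq_one_right (hsq x hx)
    have hy' : y⁻¹ = y := inv_eq_of_mul_eq_one_right (hsq y hy)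
    rw [← inv_eq_of_mul_eq_one_right h1, mul_inv_rev, hx', hy']
  -- a maximal subgroup avoiding `a`
  obtain ⟨Q, hQE, hQi, haQ⟩ : ∃ Q : Subgroup ↥(twistedG2 K (3 ^ m)),
      Q ≤ (E : Subgroup _) ∧ Q.relIndex (E : Subgroup _) = 2 ∧ a ∉ Q := by
    obtain ⟨Q, ⟨hQE, haQ⟩, hmax⟩ := Set.Finite.exists_maximal
      (s := {Q : Subgroup ↥(twistedG2 K (3 ^ m)) | Q ≤ (E : Subgroup _) ∧ a ∉ Q}) (Set.toFinite _)
      ⟨⊥, bot_le, fun h => ha1 (Subgroup.mem_bot.1 h)⟩
    refine ⟨Q, hQE, ?_, haQ⟩
    show (Q.subgroupOf (E : Subgroup _)).index = 2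
    rw [Subgroup.index_eq_two_iff]
    refine ⟨⟨a, haE⟩, fun b => ?_⟩
    simp only [Subgroup.mem_subgroupOf, Subgroup.coe_mul]
    by_cases hb : (b : ↥(twistedG2 K (3 ^ m))) ∈ Q
    · refine Or.inr ⟨hb, fun h => haQ ?_⟩
      simpa using mul_mem (inv_mem hb) h
    · refine Or.inl ⟨?_, hb⟩
      by_contra hab
      let R : Subgroup ↥(twistedG2 K (3 ^ m)) :=
        { carrier := {g | g ∈ (E : Subgroup _) ∧ (g ∈ Q ∨ (b : ↥(twistedG2 K (3 ^ m))) * g ∈ Q)}
          one_mem' := ⟨one_mem _, Or.inl (one_mem _)⟩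
          mul_mem' := by
            rintro g h ⟨hg, hg'⟩ ⟨hh, hh'⟩
            refine ⟨mul_mem hg hh, ?_⟩
            rcases hg' with hg' | hg' <;> rcases hh' with hh' | hh'
            · exact Or.inl (mul_mem hg' hh')
            · refine Or.inr ?_
              rw [← mul_assoc, hEcomm _ b.2 g hg, mul_assoc]
              exact mul_mem hg' hh'
            · exact Or.inr (by rw [← mul_assoc]; exact mul_mem hg' hh')
            · refine Or.inl ?_
              have h2 := mul_mem hg' hh'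
              rwa [show (b : ↥(twistedG2 K (3 ^ m))) * g * (b * h) = b * (g * b) * h by group,
                hEcomm g hg _ b.2, ← mul_assoc, hsq _ b.2, one_mul] at h2
          inv_mem' := by
            rintro g ⟨hg, hg'⟩
            rw [show g⁻¹ = g from inv_eq_of_mul_eq_one_right (hsq g hg)]
            exact ⟨hg, hg'⟩ }
      have hR : R ∈ {Q : Subgroup ↥(twistedG2 K (3 ^ m)) | Q ≤ (E : Subgroup _) ∧ a ∉ Q} := by
        refine ⟨fun g hg => hg.1, ?_⟩
        rintro ⟨-, h | h⟩
        · exact haQ h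
        · exact hab (hEcomm _ b.2 a haE ▸ h)
      refine hb (hmax hR (fun g hg => ⟨hQE hg, Or.inl hg⟩) ⟨b.2, Or.inr ?_⟩)
      rw [hsq _ b.2]; exact one_mem _
  rcases CfsgLib.InvolChar.exists_conj_central E Q hQE hQi a (orderOf_eq_prime (by rw [pow_two, ha2]) ha1)
    (fun s hs => hEcomm s hs a haE) with ⟨M, hM, hMi, -⟩ | ⟨g, hgQ, -⟩
  · exfalso
    have hp := C.perfect_twisted hm
    haveI := hM
    haveI : IsMulCommutative (↥(twistedG2 K (3 ^ m)) ⧸ M) :=
      ⟨⟨fun x y => by
        haveI : IsCyclic (↥(twistedG2 K (3 ^ m)) ⧸ M) := isCyclic_of_prime_card (p := 2) (by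
          rw [← Subgroup.index_eq_card]; exact hMi)
        exact (IsCyclic.commGroup (α := ↥(twistedG2 K (3 ^ m)) ⧸ M)).mul_comm x y⟩⟩
    have hle : commutator ↥(twistedG2 K (3 ^ m)) ≤ M :=
      Subgroup.Normal.quotient_commutative_iff_commutator_le.1 inferInstance
    rw [hp, top_le_iff] at hle
    rw [hle, Subgroup.index_top] at hMi
    omega
  set b := g⁻¹ * a * g with hb
  have hbE := hQE hgQ
  -- the preimage of the Sylow subgroup is abelian
  obtain ⟨g', hg'⟩ := hsurj g
  obtain ⟨a', ha'⟩ := hsurj a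
  set b' := g'⁻¹ * a' * g'
  have hb' : σ b' = b := by rw [map_mul, map_mul, map_inv, hg', ha']
  set H := (E : Subgroup ↥(twistedG2 K (3 ^ m))).comap σ with hH
  have hcb : ∀ y ∈ H, b' * y = y * b' := by
    intro y hy
    have h1 : g * σ y * g⁻¹ * a = a * (g * σ y * g⁻¹) := by
      have := hEcomm _ hy b hbE
      rw [hb] at this
      calc g * σ y * g⁻¹ * a = g * (σ y * (g⁻¹ * a * g)) * g⁻¹ := by group
        _ = _ := by rw [this]; group
    have h2 := hcent a' (g' * y * g'⁻¹) ha' (by rw [map_mul, map_mul, map_inv, hg', h1])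
    calc b' * y = g'⁻¹ * (a' * (g' * y * g'⁻¹)) * g' := by simp only [b']; group
      _ = _ := by rw [h2]; simp only [b']; group
  set N := (Subgroup.closure ({a, b} : Set ↥(twistedG2 K (3 ^ m)))).comap σ with hNdef
  have habE : Subgroup.closure ({a, b} : Set ↥(twistedG2 K (3 ^ m))) ≤ (E : Subgroup _) := by
    rw [Subgroup.closure_le]; rintro _ (rfl | rfl)
    exacts [haE, hbE]
  have hab4 : 4 ≤ Nat.card ↥(Subgroup.closure ({a, b} : Set ↥(twistedG2 K (3 ^ m)))) := by
    have hb1 : b ≠ 1 := fun e => ha1 (by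
      have := congrArg (fun z => g * z * g⁻¹) e
      simpa [hb, mul_assoc] using this)
    have hne : b ≠ a := fun e => haQ (e ▸ hgQ)
    have ha' := Subgroup.subset_closure (k := ({a, b} : Set ↥(twistedG2 K (3 ^ m)))) (Or.inl rfl)
    have hb' := Subgroup.subset_closure (k := ({a, b} : Set ↥(twistedG2 K (3 ^ m)))) (Or.inr rfl)
    calc 4 = ({1, a, b, a * b} : Finset ↥(twistedG2 K (3 ^ m))).card := by
          rw [Finset.card_eq_four.2 ⟨1, a, b, a * b, ha1.symm, hb1.symm, fun e => hne ?_, hne.symm,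
            fun e => hb1 (mul_eq_left.1 e.symm), fun e => ha1 (mul_eq_right.1 e.symm), rfl⟩]
          rw [← inv_eq_of_mul_eq_one_right e.symm, inv_eq_of_mul_eq_one_right ha2]
      _ = Nat.card ↥({1, a, b, a * b} : Finset ↥(twistedG2 K (3 ^ m))) := by
          rw [Nat.card_eq_fintype_card, Fintype.card_coe]
      _ ≤ _ := Nat.card_le_card_of_injective
        (β := ↥(Subgroup.closure ({a, b} : Set ↥(twistedG2 K (3 ^ m))))) (fun s => ⟨s.1, by
          have := s.2
          simp only [Finset.mem_insert, Finset.mem_singleton] at this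
          rcases this with h | h | h | h <;> rw [h]
          exacts [one_mem _, ha', hb', mul_mem ha' hb']⟩) fun u v e => Subtype.ext (congrArg Subtype.val e :)
  have hrel : N.relIndex H ≤ 2 ∧ N.relIndex H ≠ 0 := by
    rw [hNdef, hH, Subgroup.relIndex_comap, Subgroup.map_comap_eq_self_of_surjective hsurj]
    have h1 := Subgroup.card_mul_index
      ((Subgroup.closure ({a, b} : Set ↥(twistedG2 K (3 ^ m)))).subgroupOf (E : Subgroup _))
    rw [Nat.card_congr (Subgroup.subgroupOfEquivOfLe habE).toEquiv, h8] at h1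
    refine ⟨?_, Subgroup.index_ne_zero_of_finite⟩
    show ((Subgroup.closure ({a, b} : Set ↥(twistedG2 K (3 ^ m)))).subgroupOf (E : Subgroup _)).index ≤ 2
    nlinarith
  have hNcent : ∀ n ∈ N, ∀ h ∈ H, n * h = h * n := by
    intro n hn h hh
    let Cn : Subgroup ↥(twistedG2 K (3 ^ m)) :=
      { carrier := {s | ∀ y, σ y = s → y * h = h * y}
        one_mem' := fun y hy => (mem_comm hc (MonoidHom.mem_ker.2 hy) h).symm
        mul_mem' := by
          intro s t hs ht y hy
          obtain ⟨u, hu⟩ := hsurj s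
          have h2 := ht (u⁻¹ * y) (by rw [map_mul, map_inv, hu, hy, inv_mul_cancel_left])
          calc y * h = u * (u⁻¹ * y * h) := by group
            _ = (u * h) * (u⁻¹ * y) := by rw [h2]; group
            _ = h * y := by rw [hs u hu]; group
        inv_mem' := by
          intro s hs y hy
          have h2 := hs y⁻¹ (by rw [map_inv, hy, inv_inv])
          calc y * h = y * (h * y⁻¹) * y := by group
            _ = _ := by rw [← h2]; group }
    refine (Subgroup.closure_le Cn).2 ?_ hn n rfl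
    rintro _ (rfl | rfl) y hy
    · exact hcent y h hy (hEcomm a haE _ hh)
    · obtain ⟨z, hz, rfl⟩ := exists_mul_of_eq (hy.trans hb'.symm)
      rw [mul_assoc, hcb h hh, ← mul_assoc, ← mem_comm hc hz, mul_assoc]
  have hHcomm := commute_of_central H N (Subgroup.comap_mono habE) hNcent hrel.1 hrel.2
  obtain ⟨P⟩ : Nonempty (Sylow 2 Γ) := inferInstance
  refine CoverKernel.not_dvd_of_abelian_sylow hc h' P fun x hx y hy => ?_
  obtain ⟨k, hk⟩ := MulAction.exists_smul_eq ↥(twistedG2 K (3 ^ m)) (P.mapSurjective hsurj) E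
  obtain ⟨k', rfl⟩ := hsurj k
  have hconj : ∀ z ∈ (P : Subgroup Γ), k' * z * k'⁻¹ ∈ H := fun z hz => by
    show σ (k' * z * k'⁻¹) ∈ (E : Subgroup _)
    rw [← hk, map_mul, map_mul, map_inv, Sylow.coe_subgroup_smul]
    exact ⟨σ z, ⟨z, hz, rfl⟩, rfl⟩
  have := hHcomm _ (hconj x hx) _ (hconj y hy)
  calc x * y = k'⁻¹ * ((k' * x * k'⁻¹) * (k' * y * k'⁻¹)) * k' := by group
    _ = _ := by rw [this]; group

include C in
/-- The Schur multiplier is trivial. -/
theorem hasCyclicSchurMultiplier (hm : 1 ≤ m) :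
    Cfsg.HasCyclicSchurMultiplier ↥(twistedG2 K (3 ^ m)) 1 := by
  refine CfsgLib.Schur.hasCyclicSchurMultiplier_one fun Γ _ _ σ hσ => ?_
  obtain ⟨hsurj, hc, h'⟩ := hσ
  rw [← MonoidHom.ker_eq_bot_iff]
  refine CfsgLib.Recognition.ReeCover.kernel_three_eq_bot C σ hm hsurj hc h' ?_
  refine IsPGroup.of_card (n := (Nat.card σ.ker).primeFactorsList.length) ?_
  refine Nat.eq_prime_pow_of_unique_prime_dvd Nat.card_pos.ne' fun {d} hd hdvd => ?_
  by_contra hd3
  haveI := Fact.mk hd
  rcases eq_or_ne d 2 with rfl | hd2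
  · exact not_dvd_two C hm σ hsurj hc h' hdvd
  have hd5 : 3 < d := by have := hd.two_le; omega
  obtain ⟨P⟩ : Nonempty (Sylow d Γ) := inferInstance
  refine CoverKernel.not_dvd_of_abelian_sylow hc h' P ?_ hdvd
  intro x hx y hy
  haveI : IsCyclic ((P : Subgroup Γ).map σ) := C.sylow_cyclic hm hd5 _ (P.isPGroup'.map σ)
  set g : ↥(P : Subgroup Γ) →* ↥((P : Subgroup Γ).map σ) :=
    (σ.comp (P : Subgroup Γ).subtype).codRestrict _ fun u => ⟨u, u.2, rfl⟩
  have hg : g.ker ≤ Subgroup.center _ := fun u hu => Subgroup.mem_center_iff.2 fun v =>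
    Subtype.ext (Subgroup.mem_center_iff.1 (hc (congrArg Subtype.val (MonoidHom.mem_ker.1 hu))) v)
  exact congrArg Subtype.val (commutative_of_cyclic_center_quotient g hg ⟨x, hx⟩ ⟨y, hy⟩)

end CfsgLib.Recognition.ReeMult
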